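import Cfsg.Agent.SplitTwo.HexDefs

/-!
# Regular unipotent elements of a Moufang hexagon in coordinates (helper869)

`HexRel σ x1 .. x6`, `2 ≠ 0`, `3 ≠ 0`: every element `x1(1) x6(1) x5(b) x3(c) x2(d) x4(e)` is conjugate to `x1(1) x6(1)`.
-/

set_option autoImplicit false

namespace Cfsg.Agent.H869.TD

open Cfsg.Agent.SplitTwo

variable {E : Type*} [Field E] {σ : E ≃+* E} {G : Type*} [Group G] {x1 x2 x3 x4 x5 x6 : E → G}
  (R : HexRel σ x1 x2 x3 x4 x5 x6)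

theorem kk_eq {a b c : G} (h : kk a b = c) : b⁻¹ * a * b = a * c := by
  rw [← h]
  unfold kk
  group

theorem kk_comm {a b : G} (h : kk a b = 1) : a * b = b * a := by
  have := kk_eq h
  rw [mul_one] at this
  calc a * b = b * (b⁻¹ * a * b) := by group
    _ = b * a := by rw [this]

/-- conjugacy by an element of the subgroup generated by the root groups -/
def UCon (U : Subgroup G) (g h : G) : Prop := ∃ v ∈ U, v⁻¹ * g * v = h

theorem UCon.trans {U : Subgroup G} {g h k : G} (h1 : UCon U g h) (h2 : UCon U h k) : UCon U g k := by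
  obtain ⟨v, hv, rfl⟩ := h1
  obtain ⟨w, hw, rfl⟩ := h2
  exact ⟨v * w, mul_mem hv hw, by group⟩

section

variable {U : Subgroup G} (m1 : ∀ a, x1 a ∈ U) (m2 : ∀ a, σ a = a → x2 a ∈ U) (m3 : ∀ a, x3 a ∈ U)
  (m5 : ∀ a, x5 a ∈ U)

include R

omit R in
theorem fix_neg {a : E} (h : σ a = a) : σ (-a) = -a := by rw [map_neg, h]

omit R in
theorem fix_add {a b : E} (h : σ a = a) (h' : σ b = b) : σ (a + b) = a + b := by rw [map_add, h, h']

theorem fix_trc (a b : E) : σ (trc σ a b) = trc σ a b := by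
  unfold trc
  rw [map_add, map_add, R.cube]
  ring

include m2 in
/-- stage A -/
theorem stageA {e : E} (he : σ e = e) : UCon U (x1 1 * x6 1 * x4 e) (x1 1 * x6 1) := by
  have h1 := kk_comm (R.c12 1 e he)
  have h2 := kk_eq (R.c26 e 1 he (map_one σ))
  have h3 := kk_comm (R.c24 e e he he)
  rw [mul_one] at h2
  -- x6⁻¹ x2 x6 = x2 x4
  refine ⟨x2 e, m2 e he, ?_⟩
  have h4 : x2 e * x6 1 = x6 1 * x2 e * x4 e := by
    calc x2 e * x6 1 = x6 1 * ((x6 1)⁻¹ * x2 e * x6 1) := by group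
      _ = x6 1 * (x2 e * x4 e) := by rw [h2]
      _ = _ := by group
  calc (x2 e)⁻¹ * (x1 1 * x6 1 * x4 e) * x2 e = (x2 e)⁻¹ * x1 1 * x6 1 * (x4 e * x2 e) := by group
    _ = (x2 e)⁻¹ * x1 1 * (x6 1 * x2 e * x4 e) := by rw [← h3]; group
    _ = (x2 e)⁻¹ * x1 1 * (x2 e * x6 1) := by rw [h4]
    _ = (x2 e)⁻¹ * (x1 1 * x2 e) * x6 1 := by group
    _ = (x2 e)⁻¹ * (x2 e * x1 1) * x6 1 := by rw [h1]
    _ = _ := by group

include m3 in
/-- stage B -/
theorem stageB (h3 : (3 : E) ≠ 0) {d e : E} (hd : σ d = d) (he : σ e = e) :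
    ∃ e', σ e' = e' ∧ UCon U (x1 1 * x6 1 * x2 d * x4 e) (x1 1 * x6 1 * x4 e') := by
  have hc3 : σ (3 : E) = 3 := map_ofNat σ 3
  set c : E := -(d / 3) with hc
  have hσc : σ c = c := by rw [hc, map_neg, map_div₀, hd, hc3]
  have htr : trc σ 1 c = -d := by
    unfold trc
    rw [one_mul, hσc, hσc, hc]
    field_simp
    ring
  have k13 := kk_eq (R.c13 1 c)
  rw [htr] at k13
  have k36 := kk_comm (R.c36 c 1 (map_one σ))
  have k23 := kk_comm (R.c23 d c hd)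
  have k34 := kk_comm (R.c34 c e he)
  have hd' := fix_neg hd
  have k26 := kk_eq (R.c26 (-d) 1 hd' (map_one σ))
  rw [mul_one] at k26
  have k24 := kk_comm (R.c24 d (-d) hd hd')
  refine ⟨-d + e, fix_add hd' he, x3 c, m3 c, ?_⟩
  calc (x3 c)⁻¹ * (x1 1 * x6 1 * x2 d * x4 e) * x3 c = (x3 c)⁻¹ * x1 1 * x6 1 * x2 d * (x4 e * x3 c) := by group
    _ = (x3 c)⁻¹ * x1 1 * x6 1 * (x2 d * x3 c) * x4 e := by rw [← k34]; group
    _ = (x3 c)⁻¹ * x1 1 * (x6 1 * x3 c) * x2 d * x4 e := by rw [k23]; group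
    _ = ((x3 c)⁻¹ * x1 1 * x3 c) * x6 1 * x2 d * x4 e := by rw [← k36]; group
    _ = x1 1 * (x6 1 * ((x6 1)⁻¹ * x2 (-d) * x6 1)) * x2 d * x4 e := by rw [k13]; group
    _ = x1 1 * x6 1 * x2 (-d) * (x4 (-d) * x2 d) * x4 e := by rw [k26]; group
    _ = x1 1 * x6 1 * (x2 (-d) * x2 d) * (x4 (-d) * x4 e) := by rw [← k24]; group
    _ = x1 1 * x6 1 * x4 (-d + e) := by
      rw [← R.add2 _ _ hd' hd, ← R.add4 _ _ hd' he, neg_add_cancel]
      have h0 : x2 0 = 1 := by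
        have := R.add2 0 0 (map_zero σ) (map_zero σ)
        rw [add_zero] at this
        exact (mul_eq_left.1 this.symm)
      rw [h0, mul_one]

omit R in
/-- the elements of the abelian group `X₃ X₂ X₄` -/
def nn (x2 x3 x4 : E → G) (c d e : E) : G := x3 c * x2 d * x4 e

theorem nn_mul {c d e c' d' e' : E} (hd : σ d = d) (he : σ e = e) (hd' : σ d' = d') (he' : σ e' = e') :
    nn x2 x3 x4 c d e * nn x2 x3 x4 c' d' e' = nn x2 x3 x4 (c + c') (d + d') (e + e') := by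
  have k34 := kk_comm (R.c34 c' e he)
  have k23 := kk_comm (R.c23 d c' hd)
  have k24 := kk_comm (R.c24 d' e hd' he)
  unfold nn
  rw [R.add2 _ _ hd hd', R.add3, R.add4 _ _ he he']
  calc x3 c * x2 d * x4 e * (x3 c' * x2 d' * x4 e') = x3 c * x2 d * (x4 e * x3 c') * x2 d' * x4 e' := by group
    _ = x3 c * (x2 d * x3 c') * (x4 e * x2 d') * x4 e' := by rw [← k34]; group
    _ = _ := by rw [k23, ← k24]; group

theorem x2_zero : x2 0 = 1 := by
  have := R.add2 0 0 (map_zero σ) (map_zero σ)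
  rw [add_zero] at this
  exact (mul_eq_left.1 this.symm)

theorem x4_zero : x4 0 = 1 := by
  have := R.add4 0 0 (map_zero σ) (map_zero σ)
  rw [add_zero] at this
  exact (mul_eq_left.1 this.symm)

theorem x3_zero : x3 0 = 1 := by
  have := R.add3 0 0
  rw [add_zero] at this
  exact (mul_eq_left.1 this.symm)

theorem x5_zero : x5 0 = 1 := by
  have := R.add5 0 0
  rw [add_zero] at this
  exact (mul_eq_left.1 this.symm)

theorem nn_x6 {c d e : E} (hd : σ d = d) (he : σ e = e) :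
    nn x2 x3 x4 c d e * x6 1 = x6 1 * nn x2 x3 x4 c d (d + e) := by
  have k36 := kk_comm (R.c36 c 1 (map_one σ))
  have k46 := kk_comm (R.c46 e 1 he (map_one σ))
  have k26 := kk_eq (R.c26 d 1 hd (map_one σ))
  rw [mul_one] at k26
  unfold nn
  rw [R.add4 _ _ hd he]
  calc x3 c * x2 d * x4 e * x6 1 = x3 c * x2 d * (x4 e * x6 1) := by group
    _ = x3 c * (x6 1 * ((x6 1)⁻¹ * x2 d * x6 1)) * x4 e := by rw [k46]; group
    _ = (x3 c * x6 1) * x2 d * x4 d * x4 e := by rw [k26]; group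
    _ = _ := by rw [k36]; group

theorem nn_x5 {c d e : E} (hd : σ d = d) (he : σ e = e) (b : E) :
    nn x2 x3 x4 c d e * x5 b = x5 b * nn x2 x3 x4 c d (trc σ c b + e) := by
  have k25 := kk_comm (R.c25 d b hd)
  have k45 := kk_comm (R.c45 e b he)
  have k35 := kk_eq (R.c35 c b)
  have ht := fix_trc R c b
  have k24 := kk_comm (R.c24 d _ hd ht)
  unfold nn
  rw [R.add4 _ _ ht he]
  calc x3 c * x2 d * x4 e * x5 b = x3 c * x2 d * (x4 e * x5 b) := by group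
    _ = x3 c * (x2 d * x5 b) * x4 e := by rw [k45]; group
    _ = x5 b * ((x5 b)⁻¹ * x3 c * x5 b) * x2 d * x4 e := by rw [k25]; group
    _ = x5 b * x3 c * (x4 (trc σ c b) * x2 d) * x4 e := by rw [k35]; group
    _ = _ := by rw [← k24]; group

theorem nn_x1 {c d e : E} (hd : σ d = d) (he : σ e = e) (a : E) :
    nn x2 x3 x4 c d e * x1 a = x1 a * nn x2 x3 x4 c (-trc σ a c + d) e := by
  have k12 := kk_comm (R.c12 a d hd)
  have k14 := kk_comm (R.c14 a e he)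
  have k13 := kk_eq (R.c13 a c)
  have ht := fix_trc R a c
  have ht' := fix_neg ht
  have k23 := kk_comm (R.c23 (-trc σ a c) c ht')
  have h0 : x2 (trc σ a c) * x2 (-trc σ a c) = 1 := by
    rw [← R.add2 _ _ ht ht', add_neg_cancel, x2_zero R]
  have h1 : x3 c * x1 a = x1 a * x3 c * x2 (-trc σ a c) := by
    have h2 : x1 a * x3 c = x3 c * x1 a * x2 (trc σ a c) := by
      calc x1 a * x3 c = x3 c * ((x3 c)⁻¹ * x1 a * x3 c) := by group
        _ = _ := by rw [k13]; group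
    rw [h2, mul_assoc, h0, mul_one]
  unfold nn
  rw [R.add2 _ _ ht' hd]
  calc x3 c * x2 d * x4 e * x1 a = x3 c * x2 d * (x4 e * x1 a) := by group
    _ = x3 c * (x2 d * x1 a) * x4 e := by rw [← k14]; group
    _ = (x3 c * x1 a) * x2 d * x4 e := by rw [← k12]; group
    _ = _ := by rw [h1]; group

omit R in
theorem two_inv_fix (σ : E ≃+* E) {c : E} : σ (c / 2) = σ c / 2 := by
  rw [map_div₀, map_ofNat]

theorem fix_nrm (a : E) : σ (nrm σ a) = nrm σ a := by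
  unfold nrm
  rw [map_mul, map_mul, R.cube]
  ring

include m5 in
/-- stage C -/
theorem stageC (h2 : (2 : E) ≠ 0) {c d e : E} (hd : σ d = d) (he : σ e = e) :
    ∃ d' e', σ d' = d' ∧ σ e' = e' ∧
      UCon U (x1 1 * x6 1 * nn x2 x3 x4 c d e) (x1 1 * x6 1 * x2 d' * x4 e') := by
  set b : E := c - trc σ 1 c / 2 with hb
  have ht := fix_trc R 1 c
  have hσ2 : σ (trc σ 1 c / 2) = trc σ 1 c / 2 := by rw [two_inv_fix, ht]
  have hcr : crs σ 1 b = -c := by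
    unfold crs
    rw [hb, map_sub, map_sub, hσ2, hσ2, map_one, map_one]
    unfold trc
    field_simp
    ring
  have hA := fix_neg (fix_trc R (shp σ 1) b)
  have hB := fix_trc R 1 (shp σ b)
  have hT := fix_trc R c b
  have k15 := kk_eq (R.c15 1 b)
  rw [hcr] at k15
  have k23 := kk_comm (R.c23 _ (-c) hA)
  have hn : x2 (-trc σ (shp σ 1) b) * x3 (-c) * x4 (trc σ 1 (shp σ b)) =
      nn x2 x3 x4 (-c) (-trc σ (shp σ 1) b) (trc σ 1 (shp σ b)) := by
    unfold nn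
    rw [k23]
  rw [hn] at k15
  have k56 := kk_comm (R.c56 b 1 (map_one σ))
  refine ⟨-trc σ (shp σ 1) b + d, (-trc σ (shp σ 1) b + trc σ 1 (shp σ b)) + (trc σ c b + e), fix_add hA hd,
    fix_add (fix_add hA hB) (fix_add hT he), x5 b, m5 b, ?_⟩
  calc (x5 b)⁻¹ * (x1 1 * x6 1 * nn x2 x3 x4 c d e) * x5 b
      = (x5 b)⁻¹ * x1 1 * x6 1 * (nn x2 x3 x4 c d e * x5 b) := by group
    _ = (x5 b)⁻¹ * x1 1 * (x6 1 * x5 b) * nn x2 x3 x4 c d (trc σ c b + e) := by rw [nn_x5 R hd he]; group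
    _ = ((x5 b)⁻¹ * x1 1 * x5 b) * x6 1 * nn x2 x3 x4 c d (trc σ c b + e) := by rw [← k56]; group
    _ = x1 1 * (nn x2 x3 x4 (-c) (-trc σ (shp σ 1) b) (trc σ 1 (shp σ b)) * x6 1) *
        nn x2 x3 x4 c d (trc σ c b + e) := by rw [k15]; group
    _ = x1 1 * x6 1 * (nn x2 x3 x4 (-c) (-trc σ (shp σ 1) b) (-trc σ (shp σ 1) b + trc σ 1 (shp σ b)) *
        nn x2 x3 x4 c d (trc σ c b + e)) := by rw [nn_x6 R hA hB]; group
    _ = _ := by
      rw [nn_mul R hA (fix_add hA hB) hd (fix_add hT he), neg_add_cancel]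
      unfold nn
      rw [x3_zero R]
      group

theorem nn_one : nn x2 x3 x4 0 0 0 = 1 := by
  unfold nn
  rw [x2_zero R, x3_zero R, x4_zero R, one_mul, one_mul]

theorem nn_inv {c d e : E} (hd : σ d = d) (he : σ e = e) :
    (nn x2 x3 x4 c d e)⁻¹ = nn x2 x3 x4 (-c) (-d) (-e) := by
  rw [inv_eq_iff_mul_eq_one, nn_mul R hd he (fix_neg hd) (fix_neg he), add_neg_cancel, add_neg_cancel, add_neg_cancel,
    nn_one R]

theorem x5_inv (a : E) : (x5 a)⁻¹ = x5 (-a) := by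
  rw [inv_eq_iff_mul_eq_one, ← R.add5, add_neg_cancel, x5_zero R]

include m1 in
/-- stage D -/
theorem stageD {b c d e : E} (hd : σ d = d) (he : σ e = e) :
    ∃ c' d' e', σ d' = d' ∧ σ e' = e' ∧
      UCon U (x1 1 * x6 1 * x5 b * nn x2 x3 x4 c d e) (x1 1 * x6 1 * nn x2 x3 x4 c' d' e') := by
  set a : E := -b with ha
  have hN := fix_nrm R a
  have hN' := fix_neg hN
  have hA := fix_neg (fix_trc R (shp σ a) b)
  have hB := fix_trc R a (shp σ b)
  have hT := fix_trc R (-shp σ a) b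
  have hC := fix_neg (fix_trc R a c)
  -- `x1⁻¹ x6 x1`
  have e16 : (x1 a)⁻¹ * x6 1 * x1 a = x6 1 * x5 a * nn x2 x3 x4 (-shp σ a) (nrm σ a) (-nrm σ a) := by
    have h1 := R.c16 a 1 (map_one σ)
    rw [one_mul, one_mul, one_mul, one_pow, one_mul] at h1
    have k23 := kk_comm (R.c23 _ (shp σ a) hN')
    have h2 : x2 (-nrm σ a) * x3 (shp σ a) * x4 (nrm σ a) = nn x2 x3 x4 (shp σ a) (-nrm σ a) (nrm σ a) := by
      unfold nn
      rw [k23]
    rw [h2] at h1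
    unfold kk at h1
    have h3 : (x1 a)⁻¹ * x6 1 * x1 a = x6 1 * (x5 (-a))⁻¹ * (nn x2 x3 x4 (shp σ a) (-nrm σ a) (nrm σ a))⁻¹ := by
      have h4 : ((x1 a)⁻¹ * (x6 1)⁻¹ * x1 a)⁻¹ = (nn x2 x3 x4 (shp σ a) (-nrm σ a) (nrm σ a) * x5 (-a) * (x6 1)⁻¹)⁻¹ := by
        rw [← h1]
        group
      calc (x1 a)⁻¹ * x6 1 * x1 a = ((x1 a)⁻¹ * (x6 1)⁻¹ * x1 a)⁻¹ := by group
        _ = _ := h4
        _ = _ := by group
    rw [h3, x5_inv R, neg_neg, nn_inv R hN' hN, neg_neg]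
  have e15 : (x1 a)⁻¹ * x5 b * x1 a = x5 b * nn x2 x3 x4 (-crs σ a b) (-(-trc σ (shp σ a) b)) (-trc σ a (shp σ b)) := by
    have h1 := R.c15 a b
    have k23 := kk_comm (R.c23 _ (crs σ a b) hA)
    have h2 : x2 (-trc σ (shp σ a) b) * x3 (crs σ a b) * x4 (trc σ a (shp σ b)) =
        nn x2 x3 x4 (crs σ a b) (-trc σ (shp σ a) b) (trc σ a (shp σ b)) := by
      unfold nn
      rw [k23]
    rw [h2] at h1
    unfold kk at h1
    have h4 : ((x1 a)⁻¹ * (x5 b)⁻¹ * x1 a)⁻¹ =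
        (nn x2 x3 x4 (crs σ a b) (-trc σ (shp σ a) b) (trc σ a (shp σ b)) * (x5 b)⁻¹)⁻¹ := by
      rw [← h1]
      group
    calc (x1 a)⁻¹ * x5 b * x1 a = ((x1 a)⁻¹ * (x5 b)⁻¹ * x1 a)⁻¹ := by group
      _ = _ := h4
      _ = x5 b * (nn x2 x3 x4 (crs σ a b) (-trc σ (shp σ a) b) (trc σ a (shp σ b)))⁻¹ := by group
      _ = _ := by rw [nn_inv R hA hB]
  have e11 : x1 1 * x1 a = x1 a * x1 1 := by
    rw [← R.add1, ← R.add1, add_comm]
  have hA' := fix_neg hA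
  have hB' := fix_neg hB
  refine ⟨-shp σ a + (-crs σ a b + c), nrm σ a + (-(-trc σ (shp σ a) b) + (-trc σ a c + d)),
    (trc σ (-shp σ a) b + -nrm σ a) + (-trc σ a (shp σ b) + e), fix_add hN (fix_add hA' (fix_add hC hd)),
    fix_add (fix_add hT hN') (fix_add hB' he), x1 a, m1 a, ?_⟩
  calc (x1 a)⁻¹ * (x1 1 * x6 1 * x5 b * nn x2 x3 x4 c d e) * x1 a
      = (x1 a)⁻¹ * x1 1 * x6 1 * x5 b * (nn x2 x3 x4 c d e * x1 a) := by group
    _ = (x1 a)⁻¹ * (x1 1 * x1 a) * ((x1 a)⁻¹ * x6 1 * x1 a) * ((x1 a)⁻¹ * x5 b * x1 a) *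
        nn x2 x3 x4 c (-trc σ a c + d) e := by rw [nn_x1 R hd he]; group
    _ = x1 1 * x6 1 * x5 a * (nn x2 x3 x4 (-shp σ a) (nrm σ a) (-nrm σ a) * x5 b) *
        nn x2 x3 x4 (-crs σ a b) (-(-trc σ (shp σ a) b)) (-trc σ a (shp σ b)) *
        nn x2 x3 x4 c (-trc σ a c + d) e := by rw [e11, e16, e15]; group
    _ = x1 1 * x6 1 * (x5 a * x5 b) * (nn x2 x3 x4 (-shp σ a) (nrm σ a) (trc σ (-shp σ a) b + -nrm σ a) *
        (nn x2 x3 x4 (-crs σ a b) (-(-trc σ (shp σ a) b)) (-trc σ a (shp σ b)) *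
        nn x2 x3 x4 c (-trc σ a c + d) e)) := by rw [nn_x5 R hN hN']; group
    _ = _ := by
      rw [nn_mul R hA' hB' (fix_add hC hd) he, nn_mul R hN (fix_add hT hN') (fix_add hA' (fix_add hC hd))
        (fix_add hB' he), ← R.add5, ha, neg_add_cancel, x5_zero R, mul_one]

include m1 m2 m3 m5 in
/-- **The regular unipotent elements.** -/
theorem reg_con (h2 : (2 : E) ≠ 0) (h3 : (3 : E) ≠ 0) {b c d e : E} (hd : σ d = d) (he : σ e = e) :
    UCon U (x1 1 * x6 1 * x5 b * nn x2 x3 x4 c d e) (x1 1 * x6 1) := by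
  obtain ⟨c1, d1, e1, hd1, he1, h1⟩ := stageD R m1 (b := b) (c := c) hd he
  obtain ⟨d2, e2, hd2, he2, h2'⟩ := stageC R m5 h2 (c := c1) hd1 he1
  obtain ⟨e3, he3, h3'⟩ := stageB R m3 h3 hd2 he2
  exact ((h1.trans h2').trans h3').trans (stageA R m2 he3)

end

end Cfsg.Agent.H869.TD
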